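import Mathlib
import Groth.Agent.RedSub.Basic
import Groth.Agent.DVRProper.Basic

/-!
Properness of the closure of a set at a point through sections over discrete valuation rings.
-/

set_option autoImplicit false
set_option linter.style.haveILetI false
universe u
open CategoryTheory AlgebraicGeometry CategoryTheory.Limits TopologicalSpace

noncomputable section

namespace Groth.Agent.ProperAt

/-- A morphism from the spectrum of a field is given by a point and an embedding of its residue field. -/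
theorem exists_residue_hom {X : Scheme.{u}} {K : Type u} [Field K] (l : Spec (CommRingCat.of K) ⟶ X)
    (p : Spec (CommRingCat.of K)) :
    ∃ φ : X.residueField (l p) ⟶ CommRingCat.of K, Spec.map φ ≫ X.fromSpecResidueField (l p) = l := by
  obtain ⟨x, φ, hφ⟩ : ∃ (x : X) (φ : X.residueField x ⟶ CommRingCat.of K),
      Spec.map φ ≫ X.fromSpecResidueField x = l :=
    ⟨_, _, Scheme.descResidueField_stalkClosedPointTo_fromSpecResidueField K X l⟩
  obtain rfl : x = l p := by
    rw [← hφ, Scheme.Hom.comp_apply, Scheme.fromSpecResidueField_apply]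
  exact ⟨φ, hφ⟩

theorem residue_hom_ext {X : Scheme.{u}} {K : Type u} [Field K] (x : X)
    {φ φ' : X.residueField x ⟶ CommRingCat.of K}
    (h : Spec.map φ ≫ X.fromSpecResidueField x = Spec.map φ' ≫ X.fromSpecResidueField x) : φ = φ' :=
  Spec.map_injective ((cancel_mono (X.fromSpecResidueField x)).mp h)

variable {W : Type u} [CommRing W] [IsDomain W] {K : Type u} [Field K] [Algebra W K]
  [IsFractionRing W K]

theorem generic_eq (p : Spec (CommRingCat.of K)) :
    Spec.map (CommRingCat.ofHom (algebraMap W K)) p = genericPoint (Spec (CommRingCat.of W)) := by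
  rw [AlgebraicGeometry.genericPoint_eq_bot_of_affine]
  refine PrimeSpectrum.ext ?_
  show p.asIdeal.comap (algebraMap W K) = ⊥
  haveI : p.asIdeal.IsPrime := (show PrimeSpectrum K from p).isPrime
  rw [show p.asIdeal = ⊥ from Ideal.eq_bot_of_prime p.asIdeal, Ideal.comap_bot_of_injective _ (IsFractionRing.injective W K)]

omit [IsDomain W] in
/-- The residue map of a rational point over the generic point of a valuation ring is bijective, and
conversely such a point is the image of a unique point with values in the fraction field. -/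
theorem rational_point {X' : Scheme.{u}} (π : X' ⟶ Spec (CommRingCat.of W))
    (e : Spec (CommRingCat.of K) ⟶ X') (he : e ≫ π = Spec.map (CommRingCat.ofHom (algebraMap W K)))
    (p : Spec (CommRingCat.of K)) :
    Function.Bijective (π.residueFieldMap (e p)).hom := by
  obtain ⟨φ, hφ⟩ := exists_residue_hom e p
  let θ : CommRingCat.of W ⟶ (Spec (CommRingCat.of W)).residueField (π (e p)) :=
    Spec.preimage ((Spec (CommRingCat.of W)).fromSpecResidueField (π (e p)))
  have h1 : θ ≫ π.residueFieldMap (e p) ≫ φ = CommRingCat.ofHom (algebraMap W K) := by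
    apply Spec.map_injective
    rw [Spec.map_comp, Spec.map_comp, Category.assoc, Spec.map_preimage,
      Scheme.Hom.SpecMap_residueFieldMap_fromSpecResidueField, reassoc_of% hφ, he]
  refine ⟨(π.residueFieldMap (e p)).hom.injective, fun z => ?_⟩
  obtain ⟨a, b, -, hab⟩ := IsFractionRing.div_surjective W (φ.hom z)
  refine ⟨θ.hom a / θ.hom b, φ.hom.injective ?_⟩
  have hc : ∀ c : W, φ.hom ((π.residueFieldMap (e p)).hom (θ.hom c)) = algebraMap W K c := fun c =>
    congrArg (fun m => m.hom c) h1
  rw [map_div₀, map_div₀, hc, hc, hab]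

theorem exists_point {X' : Scheme.{u}} (π : X' ⟶ Spec (CommRingCat.of W)) (x' : X')
    (hx' : π x' = genericPoint (Spec (CommRingCat.of W)))
    (hbij : Function.Bijective (π.residueFieldMap x').hom) :
    ∃ e : Spec (CommRingCat.of K) ⟶ X', e ≫ π = Spec.map (CommRingCat.ofHom (algebraMap W K)) ∧
      ∀ p, e p = x' := by
  obtain ⟨p⟩ : Nonempty (Spec (CommRingCat.of K)) := inferInstance
  let η₀ : Spec (CommRingCat.of K) ⟶ Spec (CommRingCat.of W) :=
    Spec.map (CommRingCat.ofHom (algebraMap W K))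
  obtain ⟨y, φ₀, hy, hφ₀⟩ : ∃ (y : Spec (CommRingCat.of W))
      (φ₀ : (Spec (CommRingCat.of W)).residueField y ⟶ CommRingCat.of K), y = π x' ∧
      Spec.map φ₀ ≫ (Spec (CommRingCat.of W)).fromSpecResidueField y = η₀ := by
    obtain ⟨φ₀, hφ₀⟩ := exists_residue_hom η₀ p
    exact ⟨_, φ₀, (generic_eq p).trans hx'.symm, hφ₀⟩
  subst hy
  haveI : IsIso (π.residueFieldMap x') := (ConcreteCategory.isIso_iff_bijective _).mpr hbij
  refine ⟨Spec.map (inv (π.residueFieldMap x') ≫ φ₀) ≫ X'.fromSpecResidueField x', ?_, fun p => ?_⟩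
  · rw [Category.assoc, ← Scheme.Hom.SpecMap_residueFieldMap_fromSpecResidueField, ← Spec.map_comp_assoc,
      IsIso.hom_inv_id_assoc, hφ₀]
  · rw [Scheme.Hom.comp_apply, Scheme.fromSpecResidueField_apply]

omit [IsDomain W] [Algebra W K] [IsFractionRing W K] in
/-- Two points with values in the fraction field with the same image, one being rational, agree. -/
theorem point_ext {X' : Scheme.{u}} (π : X' ⟶ Spec (CommRingCat.of W))
    (e e' : Spec (CommRingCat.of K) ⟶ X') (h : e ≫ π = e' ≫ π) (p : Spec (CommRingCat.of K))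
    (hp : e p = e' p) (hbij : Function.Bijective (π.residueFieldMap (e p)).hom) : e = e' := by
  obtain ⟨φ, hφ⟩ := exists_residue_hom e p
  obtain ⟨x, φ', hx, hφ'⟩ : ∃ (x : X') (φ' : X'.residueField x ⟶ CommRingCat.of K), x = e p ∧
      Spec.map φ' ≫ X'.fromSpecResidueField x = e' := by
    obtain ⟨φ', hφ'⟩ := exists_residue_hom e' p
    exact ⟨_, φ', hp.symm, hφ'⟩
  subst hx
  haveI : IsIso (π.residueFieldMap (e p)) := (ConcreteCategory.isIso_iff_bijective _).mpr hbij
  rw [← hφ, ← hφ', Category.assoc, Category.assoc, ← Scheme.Hom.SpecMap_residueFieldMap_fromSpecResidueField,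
    ← Spec.map_comp_assoc, ← Spec.map_comp_assoc] at h
  rw [← hφ, ← hφ', (cancel_epi (π.residueFieldMap (e p))).mp (residue_hom_ext _ h)]

section Main

variable {X Y : Scheme.{u}} [IsLocallyNoetherian Y] (f : X ⟶ Y) [IsSeparated f] [LocallyOfFiniteType f]
  [QuasiCompact f]

/-- A point of `Z` with values in the fraction field of a discrete valuation ring extends. -/
theorem exists_extension {X Y : Scheme.{u}} (f : X ⟶ Y) (Z : Set X) (y : Y)
    (H : ∀ (A' : Type u) [CommRing A'] [IsDomain A'] [IsDiscreteValuationRing A'] (g : Spec (CommRingCat.of A') ⟶ Y),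
        g.base (IsLocalRing.closedPoint A') = y →
        ∀ x' : ↥(pullback f g), (pullback.fst f g).base x' ∈ Z →
          (pullback.snd f g).base x' = genericPoint (Spec (CommRingCat.of A')) →
          Function.Bijective ((pullback.snd f g).residueFieldMap x').hom →
          ∃ s : Spec (CommRingCat.of A') ⟶ pullback f g, s ≫ pullback.snd f g = 𝟙 _ ∧ x' ∈ Set.range s.base)
    {L : Type u} [Field L] (W : ValuationSubring L) [IsDiscreteValuationRing W]
    (e₀ : Spec (CommRingCat.of L) ⟶ X) (g : Spec (CommRingCat.of W) ⟶ Y)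
    (hg : g (IsLocalRing.closedPoint W) = y) (hge : Spec.map (CommRingCat.ofHom W.subtype) ≫ g = e₀ ≫ f)
    (hZ : ∀ p, e₀ p ∈ Z) :
    ∃ l : Spec (CommRingCat.of W) ⟶ X, Spec.map (CommRingCat.ofHom W.subtype) ≫ l = e₀ ∧ l ≫ f = g ∧
      Set.range l ⊆ closure Z := by
  obtain ⟨p⟩ : Nonempty (Spec (CommRingCat.of L)) := inferInstance
  let e : Spec (CommRingCat.of L) ⟶ pullback f g := pullback.lift _ _ hge.symm
  have he : e ≫ pullback.snd f g = Spec.map (CommRingCat.ofHom W.subtype) := pullback.lift_snd _ _ _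
  have hfst : pullback.fst f g (e p) = e₀ p := by rw [← Scheme.Hom.comp_apply, pullback.lift_fst]
  have hbij := rational_point (W := W) (pullback.snd f g) e he p
  obtain ⟨s, hs, q, hq⟩ := H W g hg (e p) (hfst ▸ hZ p) (by
    rw [← Scheme.Hom.comp_apply, he]
    exact generic_eq (W := W) p) hbij
  have hqgen : q = genericPoint (Spec (CommRingCat.of W)) := by
    have h1 := congrArg (fun m => m q) hs
    simp only [Scheme.Hom.comp_apply] at h1
    rw [show s q = e p from hq, ← Scheme.Hom.comp_apply, he] at h1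
    exact h1.symm.trans (generic_eq (W := W) p)
  have hes : Spec.map (CommRingCat.ofHom W.subtype) ≫ s = e := by
    refine (point_ext (pullback.snd f g) e _ ?_ p ?_ hbij).symm
    · rw [he, Category.assoc, hs, Category.comp_id]
    · rw [Scheme.Hom.comp_apply, show Spec.map (CommRingCat.ofHom W.subtype) p = q from
        (generic_eq (W := W) p).trans hqgen.symm]
      exact hq.symm
  refine ⟨s ≫ pullback.fst f g, ?_, ?_, ?_⟩
  · rw [reassoc_of% hes, pullback.lift_fst]
  · rw [Category.assoc, pullback.condition, reassoc_of% hs]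
  · rintro _ ⟨w, rfl⟩
    have hw : q ⤳ w := hqgen ▸ genericPoint_specializes w
    refine (hw.map (s ≫ pullback.fst f g).continuous).mem_closed isClosed_closure ?_
    rw [Scheme.Hom.comp_apply, show s q = e p from hq, hfst]
    exact subset_closure (hZ p)

set_option maxHeartbeats 1000000 in
/-- EGA IV 15.7.3 (proper at a point through DVR sections). -/
theorem closure_proper_iff (Z : Set X)
    (hZ : ∀ z ∈ closure Z, (∀ z' ∈ closure Z, z ∈ closure {z'} → z' = z) → z ∈ Z) (y : Y) :
    (∃ U : Y.Opens, y ∈ U ∧ ∃ hC : IsClosed ((f ⁻¹ᵁ U).ι.base ⁻¹' closure Z),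
      IsProper ((Scheme.IdealSheafData.vanishingIdeal
        (⟨(f ⁻¹ᵁ U).ι.base ⁻¹' closure Z, hC⟩ : TopologicalSpace.Closeds ↥(f ⁻¹ᵁ U))).subschemeι ≫ (f ∣_ U))) ↔
      ∀ (A' : Type u) [CommRing A'] [IsDomain A'] [IsDiscreteValuationRing A'] (g : Spec (CommRingCat.of A') ⟶ Y),
        g.base (IsLocalRing.closedPoint A') = y →
        ∀ x' : ↥(pullback f g), (pullback.fst f g).base x' ∈ Z →
          (pullback.snd f g).base x' = genericPoint (Spec (CommRingCat.of A')) →
          Function.Bijective ((pullback.snd f g).residueFieldMap x').hom →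
          ∃ s : Spec (CommRingCat.of A') ⟶ pullback f g, s ≫ pullback.snd f g = 𝟙 _ ∧ x' ∈ Set.range s.base := by
  let C : Closeds X := ⟨closure Z, isClosed_closure⟩
  let i := (Scheme.IdealSheafData.vanishingIdeal C).subschemeι
  have hrange : Set.range i = closure Z := RedSub.range_vanishingIdeal_subschemeι C
  -- the restriction of the reduced closure over an open
  have hiso : ∀ (U : Y.Opens) (hC : IsClosed ((f ⁻¹ᵁ U).ι.base ⁻¹' closure Z)),
      IsProper ((Scheme.IdealSheafData.vanishingIdeal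
        (⟨(f ⁻¹ᵁ U).ι.base ⁻¹' closure Z, hC⟩ : TopologicalSpace.Closeds ↥(f ⁻¹ᵁ U))).subschemeι ≫ (f ∣_ U)) ↔
      IsProper ((i ≫ f) ∣_ U) := by
    intro U hC
    let j := i ∣_ (f ⁻¹ᵁ U)
    let C' : Closeds (↑(f ⁻¹ᵁ U) : Scheme.{u}) := ⟨(f ⁻¹ᵁ U).ι.base ⁻¹' closure Z, hC⟩
    let k := (Scheme.IdealSheafData.vanishingIdeal C').subschemeι
    have hj : Set.range j = Set.range k := by
      rw [RedSub.range_vanishingIdeal_subschemeι]
      ext z
      show z ∈ Set.range j ↔ (f ⁻¹ᵁ U).ι z ∈ closure Z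
      rw [← hrange]
      constructor
      · rintro ⟨w, rfl⟩
        exact ⟨(i ⁻¹ᵁ (f ⁻¹ᵁ U)).ι w, by rw [← Scheme.Hom.comp_apply, ← morphismRestrict_ι]; rfl⟩
      · rintro ⟨w, hw⟩
        have hwU : w ∈ i ⁻¹ᵁ (f ⁻¹ᵁ U) := by
          show i w ∈ f ⁻¹ᵁ U
          rw [hw]
          exact z.2
        obtain ⟨w', rfl⟩ : w ∈ Set.range (i ⁻¹ᵁ (f ⁻¹ᵁ U)).ι := by rw [Scheme.Opens.range_ι]; exact hwU
        refine ⟨w', (f ⁻¹ᵁ U).ι.isOpenEmbedding.injective ?_⟩
        rw [← hw, ← Scheme.Hom.comp_apply, morphismRestrict_ι]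
        rfl
    haveI : IsClosedImmersion j := inferInstance
    obtain ⟨e, he⟩ := RedSub.exists_iso j k hj
    have h1 : (i ≫ f) ∣_ U = e.hom ≫ k ≫ (f ∣_ U) := by
      rw [morphismRestrict_comp, reassoc_of% he]
    rw [h1]
    exact (MorphismProperty.cancel_left_of_respectsIso @IsProper e.hom (k ≫ (f ∣_ U))).symm
  constructor
  · rintro ⟨U, hyU, hC, hproper⟩ A' _ _ _ g hg x' hx'Z hx'η hbij
    haveI : IsProper ((i ≫ f) ∣_ U) := (hiso U hC).mp hproper
    obtain ⟨e, he, hep⟩ := exists_point (K := FractionRing A') (pullback.snd f g) x' hx'η hbij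
    obtain ⟨i₀, hi₀⟩ := RedSub.exists_lift_closed i (e ≫ pullback.fst f g) (by
      rintro _ ⟨p, rfl⟩
      rw [hrange, Scheme.Hom.comp_apply, hep]
      exact subset_closure hx'Z)
    have hgU : Set.range g ⊆ U := RatMapExt.range_subset_of_closedPoint g U (by rw [hg]; exact hyU)
    have hg' : Set.range g ⊆ Set.range U.ι := by rwa [Scheme.Opens.range_ι]
    let g' := IsOpenImmersion.lift U.ι g hg'
    have hpb := isPullback_morphismRestrict (i ≫ f) U
    have hw : i₀ ≫ i ≫ f = (Spec.map (CommRingCat.ofHom (algebraMap A' (FractionRing A'))) ≫ g') ≫ U.ι := by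
      rw [reassoc_of% hi₀, pullback.condition, reassoc_of% he, Category.assoc, IsOpenImmersion.lift_fac]
    let sq : ValuativeCommSq ((i ≫ f) ∣_ U) :=
      { R := A', K := FractionRing A', i₁ := hpb.lift _ i₀ hw.symm, i₂ := g'
        commSq := ⟨hpb.lift_fst _ _ _⟩ }
    have hVC : ValuativeCriterion.Existence ((i ≫ f) ∣_ U) := by
      have h : UniversallyClosed ((i ≫ f) ∣_ U) := inferInstance
      rw [UniversallyClosed.eq_valuativeCriterion] at h
      exact h.1
    obtain ⟨⟨⟨l, hl₁, hl₂⟩⟩⟩ := hVC sq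
    have hlf : (l ≫ ((i ≫ f) ⁻¹ᵁ U).ι ≫ i) ≫ f = 𝟙 _ ≫ g := by
      rw [Category.assoc, Category.assoc, Category.id_comp, ← morphismRestrict_ι (i ≫ f) U, reassoc_of% hl₂,
        IsOpenImmersion.lift_fac]
    refine ⟨pullback.lift _ _ hlf, pullback.lift_snd _ _ _, ?_⟩
    have hlift : Spec.map (CommRingCat.ofHom (algebraMap A' (FractionRing A'))) ≫ pullback.lift _ _ hlf = e := by
      apply pullback.hom_ext
      · rw [Category.assoc, pullback.lift_fst, reassoc_of% hl₁, hpb.lift_snd_assoc, hi₀]
      · rw [Category.assoc, pullback.lift_snd, he, Category.comp_id]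
    obtain ⟨p⟩ : Nonempty (Spec (CommRingCat.of (FractionRing A'))) := inferInstance
    exact ⟨_, (congrArg (fun m => m p) hlift).trans (hep p)⟩
  · intro H
    haveI : IsClosedImmersion i := inferInstance
    obtain ⟨O, hyO, hO⟩ := DVRProper.exists_isProper_nhd (i ≫ f) y fun η hmax W hW g hg hgη => by
      haveI := hW
      have hiZ : i η ∈ Z := by
        refine hZ _ (hrange ▸ ⟨η, rfl⟩) fun z' hz' hzz' => ?_
        rw [← hrange] at hz'
        obtain ⟨w, rfl⟩ := hz'
        have h1 : i w ⤳ i η := specializes_iff_mem_closure.mpr hzz'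
        rw [hmax w (i.isClosedEmbedding.isEmbedding.specializes_iff.mp h1)]
      obtain ⟨l₀, hl₀, hl₀f, hl₀Z⟩ := exists_extension f Z y H W
        ((Scheme.IdealSheafData.vanishingIdeal C).subscheme.fromSpecResidueField η ≫ i) g hg
        (hgη.trans (Category.assoc _ _ _).symm)
        (fun p => by rw [Scheme.Hom.comp_apply, Scheme.fromSpecResidueField_apply]; exact hiZ)
      obtain ⟨l, hl⟩ := RedSub.exists_lift_closed i l₀ (hrange ▸ hl₀Z)
      refine ⟨l, ?_, ?_⟩
      · rw [← cancel_mono i, Category.assoc, hl]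
        exact hl₀
      · rw [reassoc_of% hl, hl₀f]
    exact ⟨O, hyO, isClosed_closure.preimage (f ⁻¹ᵁ O).ι.continuous, (hiso O _).mpr hO⟩

end Main

end Groth.Agent.ProperAt
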